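import Groth.Prelude.Def_Lef
import Groth.Agent.HensCouple7.Gamma
import Groth.Agent.InvX.Tensor
import Groth.Agent.H23.PullPush

/-!
# Connectedness under the Lefschetz condition
-/

universe u

open CategoryTheory AlgebraicGeometry TopologicalSpace Opposite

set_option autoImplicit false
set_option linter.style.haveILetI false
set_option backward.isDefEq.respectTransparency false
set_option backward.isDefEq.respectTransparency.types false

namespace Groth.Agent.LefConn

variable {V W : Scheme.{u}}

/-- The morphism `O_W ⟶ f_* O_V` given by a global function on `V`. -/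
noncomputable def secHom (f : V ⟶ W) (e : Γ(V, ⊤)) :
    Coh.structureModule W ⟶ (Scheme.Modules.pushforward f).obj (Coh.structureModule V) :=
  (SheafOfModules.unitHomEquiv _).symm
    (PresheafOfModules.sectionsMk (fun O => V.presheaf.map (homOfLE (le_top : f ⁻¹ᵁ O.unop ≤ ⊤)).op e)
      (fun O O' g => (ConcreteCategory.comp_apply _ _ _).symm.trans
        (congrArg (fun m => (m : Γ(V, ⊤) ⟶ _) e) (V.presheaf.map_comp _ _).symm)))

/-- The morphism `O_W ⟶ O_W` given by a global function. -/
noncomputable def mulHom (e : Γ(W, ⊤)) : Coh.structureModule W ⟶ Coh.structureModule W :=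
  (SheafOfModules.unitHomEquiv _).symm
    (PresheafOfModules.sectionsMk (fun O => W.presheaf.map (homOfLE (le_top : O.unop ≤ ⊤)).op e)
      (fun O O' g => (ConcreteCategory.comp_apply _ _ _).symm.trans
        (congrArg (fun m => (m : Γ(W, ⊤) ⟶ _) e) (W.presheaf.map_comp _ _).symm)))

/-- The value at `1` of a morphism out of the structure sheaf. -/
noncomputable def val {M : W.Modules} (φ : Coh.structureModule W ⟶ M) : Γ(M, ⊤) :=
  φ.app ⊤ (1 : Γ(W, ⊤))

theorem hom_ext_val {M : W.Modules} {φ ψ : Coh.structureModule W ⟶ M} (h : val φ = val ψ) : φ = ψ := by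
  apply (SheafOfModules.unitHomEquiv M).injective
  refine Subtype.ext (funext fun O => ?_)
  have h1 := PresheafOfModules.sections_property ((SheafOfModules.unitHomEquiv M) φ)
    (homOfLE (le_top : O.unop ≤ ⊤)).op
  have h2 := PresheafOfModules.sections_property ((SheafOfModules.unitHomEquiv M) ψ)
    (homOfLE (le_top : O.unop ≤ ⊤)).op
  refine (h1.symm.trans ?_).trans h2
  exact congrArg _ h

theorem val_secHom (f : V ⟶ W) (e : Γ(V, ⊤)) : val (secHom f e) = (e : Γ(V, f ⁻¹ᵁ ⊤)) := by
  have h : ((SheafOfModules.unitHomEquiv _) (secHom f e)).val (op ⊤) =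
      V.presheaf.map (homOfLE (le_top : f ⁻¹ᵁ ⊤ ≤ ⊤)).op e := by
    rw [secHom, Equiv.apply_symm_apply]
    rfl
  refine Eq.trans (h : val (secHom f e) = _) ?_
  show V.presheaf.map (𝟙 (op ⊤)) e = e
  rw [V.presheaf.map_id]
  rfl

theorem val_mulHom (e : Γ(W, ⊤)) : val (mulHom e) = e := by
  have h : ((SheafOfModules.unitHomEquiv _) (mulHom e)).val (op ⊤) =
      W.presheaf.map (homOfLE (le_top : (⊤ : W.Opens) ≤ ⊤)).op e := by
    rw [mulHom, Equiv.apply_symm_apply]
    rfl
  refine Eq.trans (h : val (mulHom e) = _) ?_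
  show W.presheaf.map (𝟙 (op ⊤)) e = e
  rw [W.presheaf.map_id]
  rfl

theorem val_comp_unitToPush (f : V ⟶ W) (φ : Coh.structureModule W ⟶ Coh.structureModule W) :
    val (φ ≫ ClSub.unitToPush f) = (f.appTop (val φ) : Γ(V, ⊤)) := rfl

theorem val_secHom_quotMap {I J : W.IdealSheafData} (h : I ≤ J) (e : Γ(I.subscheme, ⊤)) :
    val (secHom I.subschemeι e ≫ Lef.quotMap h) =
      ((Scheme.IdealSheafData.inclusion h).appTop e : Γ(J.subscheme, ⊤)) := by
  have h0 : val (secHom I.subschemeι e ≫ Lef.quotMap h) = (Lef.quotMap h).app ⊤ (val (secHom I.subschemeι e)) := rfl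
  rw [h0, val_secHom]
  have hcongr : ∀ (g : J.subscheme ⟶ W) (he : g = J.subschemeι)
      (s : Γ(J.subscheme, g ⁻¹ᵁ ⊤)),
      ((Scheme.Modules.pushforwardCongr he).hom.app (Coh.structureModule J.subscheme)).app ⊤ s =
        (s : Γ(J.subscheme, ⊤)) := by
    intro g he s
    subst he
    rw [Scheme.Modules.pushforwardCongr_hom_app_app]
    have h1 := (Coh.structureModule J.subscheme).presheaf.map_id (op (J.subschemeι ⁻¹ᵁ ⊤))
    exact ConcreteCategory.congr_hom h1 s
  unfold Lef.quotMap
  rw [Scheme.Modules.Hom.comp_app, Scheme.Modules.Hom.comp_app, ConcreteCategory.comp_apply,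
    ConcreteCategory.comp_apply]
  rw [hcongr]
  rfl

/-- An idempotent with everywhere non-vanishing is one. -/
theorem eq_one_of_basicOpen {Y : Scheme.{u}} {a : Γ(Y, ⊤)} (ha : a * a = a)
    (h : ∀ y, y ∈ Y.basicOpen a) : a = 1 := by
  refine HensCouple7.eq_of_basicOpen_eq ha (one_mul 1) ?_
  rw [Scheme.basicOpen_of_isUnit _ isUnit_one]
  exact Set.eq_univ_of_forall h

theorem preimage_basicOpen_top' {Y Z : Scheme.{u}} (f : Y ⟶ Z) (r : Γ(Z, ⊤)) (y : Y) :
    y ∈ Y.basicOpen (f.appTop r) ↔ f y ∈ Z.basicOpen r := by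
  rw [← Scheme.preimage_basicOpen_top]
  rfl

theorem preconnected_iff (X : Scheme.{u}) (𝓘 : X.IdealSheafData) (h : Lef.LefCond X 𝓘) (U : X.Opens)
    (hU : (𝓘.support : Set X) ⊆ (U : Set X)) :
    ConnectedSpace (𝓘.support : Set X) ↔ ConnectedSpace U := by
  let J : U.toScheme.IdealSheafData := 𝓘.comap U.ι
  let i : ∀ n : ℕ, (J ^ (n + 1)).subscheme ⟶ U.toScheme := fun n => (J ^ (n + 1)).subschemeι
  have hO : FlatMod.IsFinLocFree (Coh.structureModule U.toScheme) :=
    Groth.Agent.H23.PullPush.isFinLocFree_of_isInvertible Groth.Agent.InvX.isInvertible_structureModule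
  obtain ⟨hinj, hsurj⟩ := h U hU (Coh.structureModule U.toScheme) hO
  let Z : Set U.toScheme := J.support
  have hZ : ∀ x : U.toScheme, x ∈ Z ↔ U.ι x ∈ (𝓘.support : Set X) := fun x => by
    show x ∈ (𝓘.comap U.ι).support ↔ _
    rw [Scheme.IdealSheafData.support_comap]
    rfl
  have hrange : ∀ n, Set.range (i n) = Z := fun n => by
    rw [Scheme.IdealSheafData.range_subschemeι, Scheme.IdealSheafData.support_pow_succ]
  have hinj' : ∀ e e' : Γ(U.toScheme, ⊤), (∀ n, (i n).appTop e = (i n).appTop e') → e = e' := by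
    intro e e' he
    have := hinj (mulHom e) (mulHom e') fun n => hom_ext_val (by
      rw [val_comp_unitToPush, val_comp_unitToPush, val_mulHom, val_mulHom]
      exact he n)
    rw [← val_mulHom e, this, val_mulHom]
  have hZsupp : ConnectedSpace (𝓘.support : Set X) ↔ _root_.IsConnected Z := by
    rw [← isConnected_iff_connectedSpace, show (𝓘.support : Set X) = U.ι '' Z from ?_]
    · exact ⟨fun h => ⟨h.nonempty.of_image, U.ι.isOpenEmbedding.isEmbedding.isInducing.isPreconnected_image.1 h.isPreconnected⟩,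
        fun h => h.image _ U.ι.continuous.continuousOn⟩
    · ext x
      refine ⟨fun hx => ⟨⟨x, hU hx⟩, (hZ _).2 hx, rfl⟩, ?_⟩
      rintro ⟨y, hy, rfl⟩
      exact (hZ y).1 hy
  rw [hZsupp]
  constructor
  · intro hc
    haveI : Nonempty U.toScheme := ⟨hc.nonempty.choose⟩
    have key : ∀ C : Set U.toScheme, IsClopen C → Z ⊆ C → C = Set.univ := by
      intro C hC hZC
      obtain ⟨e, he, heC⟩ := HensCouple7.exists_idempotent_of_isClopen hC
      have he1 : e = 1 := hinj' e 1 fun n => by
        rw [map_one]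
        refine eq_one_of_basicOpen (by rw [← map_mul, he]) fun y => ?_
        rw [preimage_basicOpen_top', ← SetLike.mem_coe, heC]
        exact hZC (hrange n ▸ ⟨y, rfl⟩)
      rw [← heC, he1, Scheme.basicOpen_of_isUnit _ isUnit_one]
      rfl
    haveI : PreconnectedSpace U.toScheme := preconnectedSpace_iff_clopen.2 fun C hC => by
      rcases isPreconnected_iff_subset_of_disjoint.1 hc.isPreconnected C Cᶜ hC.isOpen hC.compl.isOpen
        (by simp) (by simp) with h1 | h1
      · exact Or.inr (key C hC h1)
      · exact Or.inl (Set.compl_univ_iff.1 (key Cᶜ hC.compl h1))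
    exact ({ toNonempty := inferInstance } : ConnectedSpace U.toScheme)
  · intro hc
    haveI : ConnectedSpace U.toScheme := hc
    refine ⟨?_, ?_⟩
    · by_contra hne
      obtain ⟨x⟩ := (inferInstance : Nonempty U.toScheme)
      have h10 : (1 : Γ(U.toScheme, ⊤)) = 0 := hinj' 1 0 fun n => by
        haveI : IsEmpty (J ^ (n + 1)).subscheme := ⟨fun y => hne ⟨i n y, by rw [← hrange n]; exact ⟨y, rfl⟩⟩⟩
        haveI : Subsingleton Γ((J ^ (n + 1)).subscheme, ⊤) := by
          rw [show (⊤ : (J ^ (n + 1)).subscheme.Opens) = ⊥ from Opens.ext (Set.ext fun y => isEmptyElim y)]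
          infer_instance
        exact Subsingleton.elim _ _
      have hx : x ∈ U.toScheme.basicOpen (1 : Γ(U.toScheme, ⊤)) := by
        rw [Scheme.basicOpen_of_isUnit _ isUnit_one]; trivial
      rw [h10, Scheme.basicOpen_zero] at hx
      exact hx
    · rw [isPreconnected_iff_preconnectedSpace]
      refine preconnectedSpace_iff_clopen.2 fun A hA => ?_
      let pr : ∀ n, (J ^ (n + 1)).subscheme → Z := fun n y => ⟨i n y, hrange n ▸ ⟨y, rfl⟩⟩
      have hprc : ∀ n, Continuous (pr n) := fun n => (i n).continuous.subtype_mk _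
      choose e he heA using fun n => HensCouple7.exists_idempotent_of_isClopen (hA.preimage (hprc n))
      have hform : Lef.IsFormalHom J (Coh.structureModule U.toScheme) (fun n => secHom (i n) (e n)) := by
        intro n
        apply hom_ext_val
        rw [val_secHom_quotMap, val_secHom]
        let j := Scheme.IdealSheafData.inclusion (Lef.pow_succ_le J n)
        refine HensCouple7.eq_of_basicOpen_eq (a := j.appTop (e (n + 1))) (b := e n)
          (by rw [← map_mul, he]) (he n) ?_
        ext y
        rw [SetLike.mem_coe, preimage_basicOpen_top', ← SetLike.mem_coe, heA, heA, Set.mem_preimage,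
          Set.mem_preimage]
        have : pr (n + 1) (j y) = pr n y := by
          apply Subtype.ext
          show i (n + 1) (j y) = i n y
          rw [← Scheme.Hom.comp_apply, Scheme.IdealSheafData.inclusion_subschemeι]
        rw [this]
      obtain ⟨φ, hφ⟩ := hsurj _ hform
      let v : Γ(U.toScheme, ⊤) := val φ
      have hval : ∀ n, (i n).appTop (v) = e n := fun n => by
        have := congrArg val (hφ n)
        rw [val_comp_unitToPush, val_secHom] at this
        exact this
      have hidem : v * v = v := hinj' _ _ fun n => by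
        rw [map_mul, hval, he]
      have hC : IsClopen (U.toScheme.basicOpen (v) : Set U.toScheme) := by
        refine ⟨?_, (U.toScheme.basicOpen _).isOpen⟩
        rw [← isOpen_compl_iff, ← HensCouple7.basicOpen_compl_of_idem hidem]
        exact (U.toScheme.basicOpen _).isOpen
      have hmem : ∀ z : Z, z ∈ A ↔ z.1 ∈ U.toScheme.basicOpen (v) := fun z => by
        obtain ⟨y, hy⟩ : z.1 ∈ Set.range (i 0) := (hrange 0).symm ▸ z.2
        have hz : pr 0 y = z := Subtype.ext hy
        rw [← hy, ← preimage_basicOpen_top', hval, ← SetLike.mem_coe, heA, Set.mem_preimage, hz]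
      rcases isClopen_iff.1 hC with h1 | h1
      · exact Or.inl (Set.eq_empty_of_forall_notMem fun z hz =>
          (Set.eq_empty_iff_forall_notMem.1 h1 _) ((hmem z).1 hz))
      · exact Or.inr (Set.eq_univ_of_forall fun z => (hmem z).2 (h1.symm ▸ Set.mem_univ _ : z.1 ∈ (U.toScheme.basicOpen (v) : Set U.toScheme)))

end Groth.Agent.LefConn
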